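import Mathlib
import Cfsg.Agent.H116.RatB0.RowRgd
import Cfsg.Agent.H932.BR.TorCent

/-!
# The rows `p ∣ q - 1` of S4891 for the exceptional groups `G₂, F₄, E₆, E₇, E₈` (helper541)

`Q` is the group of the elements of order dividing `p` of the torus; it contains the `h_j(ζ)`, `ζ` of order `p`. No root
is trivial on `Q` (`⟨a, a^∨⟩ = 2`), and if `w` is trivial on `Q`, then `⟨w a - a, α_j^∨⟩ ≡ 0 mod p` for all roots `a`;
for the simple roots `a` (`G₂`: short roots) this gives `w a = a` (tables; `p = 3`, `p = 5`, `p ≥ 7`).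
-/

set_option autoImplicit false
set_option linter.unusedSectionVars false

namespace Cfsg.Agent.H541.RatB0

open CoxeterSystem Cfsg Cfsg.Lie Cfsg.Lie.ChevalleyDatum
open Cfsg.Agent.ChevalleyStructure Cfsg.Agent.ChevalleyStructure.Elts Cfsg.Agent.ChevalleyStructure.CoxeterGeom
  Cfsg.Agent.ChevalleyStructure.CoxeterGeomTypes Cfsg.Agent.ChevalleyStructure.NPerm
open Cfsg.Agent.Tits.Roots Cfsg.Agent.Tits.Core Cfsg.Agent.Nodes Cfsg.Agent.Nodes.Reps Cfsg.Agent.Nodes.BNOf
  Cfsg.Agent.Nodes.RGDChev Cfsg.Agent.Nodes.Bruhat Cfsg.Agent.Nodes.NormalForm Cfsg.Agent.Nodes.StabComb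
  Cfsg.Agent.Nodes.LeviDec
open Cfsg.Agent.KFacts.RgdField Cfsg.Agent.KFacts.RgdChevCoord Cfsg.Agent.BpExc.TorCent Cfsg.Agent.BpExc.TorChev
open Cfsg.Agent.BpExc.TowChev Cfsg.Agent.H129.TorusChar Cfsg.Agent.H932.BR
open Cfsg.Agent.H145.BR (RowInt)

universe u

/-! ### the checks -/

/-- bounded quantifiers -/
def anyL (n : ℕ) (p : ℕ → Bool) : Bool := Nat.rec false (fun k acc => p k || acc) n
/-- bounded quantifiers -/
def allL (n : ℕ) (p : ℕ → Bool) : Bool := Nat.rec true (fun k acc => p k && acc) n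

theorem allL_spec {n : ℕ} {p : ℕ → Bool} (h : allL n p = true) : ∀ k, k < n → p k = true := by
  induction n with
  | zero => intro k hk; omega
  | succ n ih =>
    have h' : (p n && allL n p) = true := h
    rw [Bool.and_eq_true] at h'
    intro k hk
    rcases Nat.lt_succ_iff_lt_or_eq.1 hk with h1 | rfl
    · exact ih h'.2 k h1
    · exact h'.1

theorem anyL_spec {n : ℕ} {p : ℕ → Bool} (h : anyL n p = true) : ∃ k, k < n ∧ p k = true := by
  induction n with
  | zero => exact absurd h (by simp [anyL])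
  | succ n ih =>
    have h' : (p n || anyL n p) = true := h
    rw [Bool.or_eq_true] at h'
    rcases h' with h1 | h1
    · exact ⟨n, n.lt_succ_self, h1⟩
    · obtain ⟨k, hk, h2⟩ := ih h1
      exact ⟨k, hk.trans n.lt_succ_self, h2⟩

/-- not divisible by 3 -/
def t3 (d : ℤ) : Bool := !(d % 3 == 0)
/-- not divisible by 5 -/
def t5 (d : ℤ) : Bool := !(d % 5 == 0)
/-- nonzero and small -/
def t7 (d : ℤ) : Bool := !(d == 0) && (decide (-6 ≤ d) && decide (d ≤ 6))

theorem exists_test {p : ℕ} (hp : p.Prime) (hp2 : p ≠ 2) :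
    ∃ t : ℤ → Bool, (t = t3 ∨ t = t5 ∨ t = t7) ∧ ∀ d, t d = true → ¬ (p : ℤ) ∣ d := by
  by_cases h3 : p = 3
  · refine ⟨t3, Or.inl rfl, fun d hd hdvd => ?_⟩
    simp only [t3, Bool.not_eq_true', beq_eq_false_iff_ne, ne_eq] at hd
    rw [h3] at hdvd
    exact hd (Int.emod_eq_zero_of_dvd hdvd)
  by_cases h5 : p = 5
  · refine ⟨t5, Or.inr (Or.inl rfl), fun d hd hdvd => ?_⟩
    simp only [t5, Bool.not_eq_true', beq_eq_false_iff_ne, ne_eq] at hd
    rw [h5] at hdvd
    exact hd (Int.emod_eq_zero_of_dvd hdvd)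
  · refine ⟨t7, Or.inr (Or.inr rfl), fun d hd hdvd => ?_⟩
    simp only [t7, Bool.and_eq_true, Bool.not_eq_true', beq_eq_false_iff_ne, ne_eq, decide_eq_true_eq] at hd
    obtain ⟨h0, h1, h2⟩ := hd
    have h7 : 7 ≤ p := by
      have := hp.two_le
      have h4 : p ≠ 4 := by
        rintro rfl
        exact absurd hp (by norm_num)
      have h6 : p ≠ 6 := by
        rintro rfl
        exact absurd hp (by norm_num)
      omega
    have h8 := Int.le_of_dvd (by positivity) ((dvd_abs _ _).2 hdvd)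
    have h9 : |d| ≤ 6 := abs_le.2 ⟨h1, h2⟩
    omega

/-- the test of a datum -/
def chk (D : ChevalleyDatum) (t : ℤ → Bool) (S : List ℕ) : Bool :=
  allL D.nroots (fun r => anyL D.rank fun i => t (D.cartan i r)) &&
    S.all fun s => allL D.nroots fun r => (r == s) || anyL D.rank fun j => t (D.cartan j r - D.cartan j s)

/-! ### the torus -/

section Tor

variable {D : ChevalleyDatum} {l : ℕ} {M : CoxeterMatrix (Fin l)} (hp : IsType D l M) {K : Type u} [Field K]

include hp

theorem TT_comm {s t : ↥(D.group K)} (hs : s ∈ TT D K) (ht : t ∈ TT D K) : s * t = t * s := by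
  apply cX_inj hp (mul_mem hs ht) (mul_mem ht hs)
  intro i
  rw [cX_mul hp hs ht, cX_mul hp ht hs, mul_comm]

variable (K) in
/-- the elements of order dividing `p` of the torus -/
def QQ (p : ℕ) : Subgroup ↥(D.group K) where
  carrier := {t | t ∈ TT D K ∧ t ^ p = 1}
  one_mem' := ⟨one_mem _, one_pow _⟩
  mul_mem' := by
    rintro a b ⟨ha, ha'⟩ ⟨hb, hb'⟩
    refine ⟨mul_mem ha hb, ?_⟩
    rw [(show Commute a b from TT_comm hp ha hb).mul_pow, ha', hb', one_mul]
  inv_mem' := by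
    rintro a ⟨ha, ha'⟩
    exact ⟨inv_mem ha, by rw [inv_pow, ha', inv_one]⟩

theorem hc_mem_QQ {p : ℕ} {ζ : K} (hζ0 : ζ ≠ 0) (hζ : ζ ^ p = 1) (j : Fin l) : hc hp j ζ ∈ QQ hp K p := by
  refine ⟨hc_mem hp j hζ0, ?_⟩
  apply cX_inj hp (pow_mem (hc_mem hp j hζ0) p) (one_mem _)
  intro i
  rw [cX_pow hp (hc_mem hp j hζ0), cX_hc hp j hζ0, cX_one, ← zpow_natCast, ← zpow_mul, mul_comm, zpow_mul,
    zpow_natCast, hζ, one_zpow]

end Tor

/-! ### the theorem -/

section Main

variable {D : ChevalleyDatum} {l : ℕ} {M : CoxeterMatrix (Fin l)} (hp : IsType D l M)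
  {W : Type*} [Group W] (cs : CoxeterSystem M W) {K : Type u} [Field K] [Finite K]

include hp cs

theorem rowInt_chev [Nonempty (Fin l)] {p : ℕ} [hpp : Fact p.Prime] (hd : p ∣ Nat.card K - 1) {t : ℤ → Bool}
    (ht : ∀ d, t d = true → ¬ (p : ℤ) ∣ d) {S : List ℕ} (hS : ∀ s ∈ S, s < D.nroots)
    (hgen : ∀ f : (Fin l → ℤ) →ₗ[ℤ] (Fin l → ℤ), (∀ s ∈ S, f (vec D l s) = vec D l s) → ∀ i, f (sr i) = sr i)
    (hchk : chk D t S = true) : RowInt p ↥(D.group K) := by
  classical
  unfold chk at hchk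
  rw [Bool.and_eq_true, List.all_eq_true] at hchk
  obtain ⟨h1, h2⟩ := hchk
  obtain ⟨r, hr⟩ := CharP.exists K
  haveI : Fintype K := Fintype.ofFinite K
  have hrp : r.Prime := CharP.char_is_prime K r
  haveI : Fact r.Prime := ⟨hrp⟩
  haveI := finite_W hp cs
  obtain ⟨n, -, hn⟩ := FiniteField.card K r
  have hq1 : 1 < Nat.card K := Finite.one_lt_card
  have hpr : p ≠ r := by
    rintro rfl
    have h3 : p ∣ Nat.card K := by rw [Nat.card_eq_fintype_card, hn]; exact dvd_pow_self p n.ne_zero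
    have h4 := Nat.dvd_sub h3 hd
    rw [Nat.sub_sub_self hq1.le] at h4
    exact hpp.out.one_lt.ne' (Nat.dvd_one.1 h4)
  -- a root of unity of order `p`
  have hdvd : p ∣ Nat.card Kˣ := by rw [Nat.card_units]; exact hd
  obtain ⟨z, hz⟩ := exists_prime_orderOf_dvd_card' (G := Kˣ) p hdvd
  have hζ0 : (z : K) ≠ 0 := z.ne_zero
  have hζ : (z : K) ^ p = 1 := by
    rw [← Units.val_pow_eq_pow_val, ← hz, pow_orderOf_eq_one, Units.val_one]
  have hζz : ∀ m : ℤ, (z : K) ^ m = 1 → (p : ℤ) ∣ m := by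
    intro m hm
    rw [← hz]
    apply orderOf_dvd_iff_zpow_eq_one.2
    apply Units.ext
    rw [Units.val_zpow_eq_zpow_val, hm, Units.val_one]
  have hcent : Subgroup.centralizer ((QQ hp K p : Subgroup ↥(D.group K)) : Set ↥(D.group K)) ≤ TT D K := by
    refine cent_le_TT hp cs r (fun x hx => hx.1) ?_ ?_
    · intro x hx
      obtain ⟨s, hs, rfl⟩ := (isRoot_iff hp cs x).1 hx
      obtain ⟨i, hi, h3⟩ := anyL_spec (allL_spec h1 s hs)
      rw [hp.rank_eq] at hi
      refine ⟨hc hp ⟨i, hi⟩ (z : K), hc_mem_QQ hp hζ0 hζ _, ?_⟩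
      rw [cX_hc hp _ hζ0, pairing_vec hp _ hs]
      exact fun h4 => ht _ h3 (hζz _ h4)
    · intro w hw
      have h3 : ∀ s ∈ S, rep cs hp.isCartan w (vec D l s) = vec D l s := by
        intro s hs
        have hs' := hS s hs
        obtain ⟨r', hr', he⟩ := (isRoot_iff hp cs _).1 ((isRoot_vec hp cs hs').act w)
        rw [← he]
        have h4 := allL_spec (h2 s hs) r' hr'
        rw [Bool.or_eq_true, beq_iff_eq] at h4
        rcases h4 with h4 | h4
        · rw [h4]
        · exfalso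
          obtain ⟨j, hj, h5⟩ := anyL_spec h4
          rw [hp.rank_eq] at hj
          refine ht _ h5 (hζz _ ?_)
          have h6 := hw _ (hc_mem_QQ hp hζ0 hζ ⟨j, hj⟩) (vec D l s)
          rw [← he, cX_hc hp _ hζ0, cX_hc hp _ hζ0, pairing_vec hp _ hr', pairing_vec hp _ hs'] at h6
          rw [zpow_sub₀ hζ0, h6, div_self (zpow_ne_zero _ hζ0)]
      exact eq_one_of_fix cs hp.isCartan w (hgen _ h3)
  have hR := rgd (K := K) hp cs r
  have hGG := GG_top (K := K) hp cs
  have hQT : QQ hp K p ≤ TT D K := fun x hx => hx.1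
  have hQp : IsPGroup p (QQ hp K p) := fun x => ⟨1, by
    rw [pow_one]
    exact Subtype.ext x.2.2⟩
  exact H116.RatB0.rowInt_of hR hGG hpr fun _ _ => Or.inr (H116.RatB0.reg_modEq_of_le hQp
    ((hQT.trans RGD.T_le_B).trans B_le_PJ) (hcent.trans (RGD.T_le_B.trans B_le_PJ)))

end Main

/-! ### the five types -/

/-- the indices of the simple roots -/
def simp (D : ChevalleyDatum) : List ℕ := (List.range D.rank).map D.simple

set_option maxRecDepth 100000 in
theorem chk_G2 : chk chevG2 t3 [7, 8] = true ∧ chk chevG2 t5 [7, 8] = true ∧ chk chevG2 t7 [7, 8] = true := by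
  decide +kernel

set_option maxRecDepth 100000 in
theorem chk_F4 : chk chevF4 t3 (simp chevF4) = true ∧ chk chevF4 t5 (simp chevF4) = true ∧
    chk chevF4 t7 (simp chevF4) = true := by
  decide +kernel

set_option maxRecDepth 100000 in
theorem chk_E6 : chk chevE6 t3 (simp chevE6) = true ∧ chk chevE6 t5 (simp chevE6) = true ∧
    chk chevE6 t7 (simp chevE6) = true := by
  decide +kernel

set_option maxRecDepth 100000 in
theorem chk_E7 : chk chevE7 t3 (simp chevE7) = true ∧ chk chevE7 t5 (simp chevE7) = true ∧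
    chk chevE7 t7 (simp chevE7) = true := by
  decide +kernel

set_option maxRecDepth 100000 in
theorem chk_E8 : chk chevE8 t3 (simp chevE8) = true ∧ chk chevE8 t5 (simp chevE8) = true ∧
    chk chevE8 t7 (simp chevE8) = true := by
  decide +kernel

theorem row_simp {D : ChevalleyDatum} {l : ℕ} {M : CoxeterMatrix (Fin l)} (hp : IsType D l M) [Nonempty (Fin l)]
    {W : Type*} [Group W] (cs : CoxeterSystem M W) {K : Type u} [Field K] [Finite K] {p : ℕ} [hpp : Fact p.Prime]
    (hp2 : p ≠ 2) (hd : p ∣ Nat.card K - 1)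
    (h : chk D t3 (simp D) = true ∧ chk D t5 (simp D) = true ∧ chk D t7 (simp D) = true) :
    RowInt p ↥(D.group K) := by
  obtain ⟨t, ht, ht'⟩ := exists_test hpp.out hp2
  have hchk : chk D t (simp D) = true := by
    rcases ht with rfl | rfl | rfl
    · exact h.1
    · exact h.2.1
    · exact h.2.2
  refine rowInt_chev hp cs hd ht' (S := simp D) ?_ ?_ hchk
  · intro s hs
    obtain ⟨i, hi, rfl⟩ := List.mem_map.1 hs
    rw [List.mem_range] at hi
    exact simple_lt hp.inList hi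
  · intro f hf i
    have h1 := hf (D.simple i) (List.mem_map.2 ⟨i, List.mem_range.2 (lt_rank hp i), rfl⟩)
    rwa [vec_simple hp i] at h1

theorem vec_G2 : vec chevG2 2 8 = sr 0 + sr 1 ∧ vec chevG2 2 7 = sr 0 := by
  constructor
  · funext i
    fin_cases i <;> decide
  · funext i
    fin_cases i <;> decide

variable {K : Type} [Field K] [Fintype K] {p : ℕ} [Fact p.Prime]

/-- **G₂(q)**, `p ∣ q - 1` -/
theorem rowInt_one_G2 (hp2 : p ≠ 2) (hd : p ∣ Fintype.card K - 1) : RowInt p (Lie.chevG2.group K) := by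
  have hpp : p.Prime := Fact.out
  rw [← Nat.card_eq_fintype_card] at hd
  have hp : IsType chevG2 2 CoxeterMatrix.G₂ := by simp [IsType, typeList]
  obtain ⟨t, ht, ht'⟩ := exists_test hpp hp2
  have hchk : chk chevG2 t [7, 8] = true := by
    rcases ht with rfl | rfl | rfl
    · exact chk_G2.1
    · exact chk_G2.2.1
    · exact chk_G2.2.2
  refine rowInt_chev hp CoxeterMatrix.G₂.toCoxeterSystem hd ht' (S := [7, 8]) ?_ ?_ hchk
  · intro s hs
    have : ∀ s ∈ [7, 8], s < chevG2.nroots := by decide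
    exact this s hs
  · intro f hf
    have h7 := hf 7 (by simp)
    have h8 := hf 8 (by simp)
    rw [vec_G2.2] at h7
    rw [vec_G2.1, map_add, h7] at h8
    intro i
    fin_cases i
    · exact h7
    · exact add_left_cancel h8

/-- **F₄(q)**, `p ∣ q - 1` -/
theorem rowInt_one_F4 (hp2 : p ≠ 2) (hd : p ∣ Fintype.card K - 1) : RowInt p (Lie.chevF4.group K) := by
  rw [← Nat.card_eq_fintype_card] at hd
  exact row_simp (D := chevF4) (l := 4) (M := CoxeterMatrix.F₄) (by simp [IsType, typeList])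
    CoxeterMatrix.F₄.toCoxeterSystem hp2 hd chk_F4

/-- **E₆(q)**, `p ∣ q - 1` -/
theorem rowInt_one_E6 (hp2 : p ≠ 2) (hd : p ∣ Fintype.card K - 1) : RowInt p (Lie.chevE6.group K) := by
  rw [← Nat.card_eq_fintype_card] at hd
  exact row_simp (D := chevE6) (l := 6) (M := CoxeterMatrix.E₆) (by simp [IsType, typeList])
    CoxeterMatrix.E₆.toCoxeterSystem hp2 hd chk_E6

/-- **E₇(q)**, `p ∣ q - 1` -/
theorem rowInt_one_E7 (hp2 : p ≠ 2) (hd : p ∣ Fintype.card K - 1) : RowInt p (Lie.chevE7.group K) := by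
  rw [← Nat.card_eq_fintype_card] at hd
  exact row_simp (D := chevE7) (l := 7) (M := CoxeterMatrix.E₇) (by simp [IsType, typeList])
    CoxeterMatrix.E₇.toCoxeterSystem hp2 hd chk_E7

/-- **E₈(q)**, `p ∣ q - 1` -/
theorem rowInt_one_E8 (hp2 : p ≠ 2) (hd : p ∣ Fintype.card K - 1) : RowInt p (Lie.chevE8.group K) := by
  rw [← Nat.card_eq_fintype_card] at hd
  exact row_simp (D := chevE8) (l := 8) (M := CoxeterMatrix.E₈) (by simp [IsType, typeList])
    CoxeterMatrix.E₈.toCoxeterSystem hp2 hd chk_E8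

end Cfsg.Agent.H541.RatB0
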