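import Cfsg.Agent.H116.RatB0.RowsFin
import Cfsg.Agent.H422.RatB.RowE7Four
import Cfsg.Agent.H498.RP.E6A5
import Cfsg.Agent.H498.RP.E7D6
import Cfsg.Agent.H498.RP.E7E6
import Cfsg.Agent.H583.BR.Crit
import Cfsg.Agent.H646.BR.Congr

/-!
# The rows `e6`, `e7` of S4891 (helper541)

`rowZ_of_PJ` : `RowZ p S`, if `p ∣ |S : P_J|`, `J` is invariant under the symmetries of the diagram and the constituents of
the permutation character on `S / P_J` are integer valued (helper498, `int_E6_A5`, `int_E7_D6`, `int_E7_E6`).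

* `rowZ_E6_of_dvd` : `Φ_m(q)`, `m = 2, 3, 4, 6, 8, 9, 12`; `rowZ_E7_of_dvd` : `m = 2, 3, 6, 7, 9, 10, 12, 14, 18`;
* `rowZ_E6` : all primes but those dividing `Φ₅(q)`, `rowZ_E7` : all primes but those dividing `Φ₅(q)`, `Φ₈(q)`;
* `row_e6`, `row_e7` : the fields of S4891.
-/

set_option autoImplicit false
set_option linter.unusedSectionVars false
set_option maxRecDepth 100000

open Cfsg

namespace Cfsg.Agent.H541.RatB0

open CoxeterSystem Cfsg.Agent.ChevalleyStructure.CoxeterGeom Cfsg.Agent.Tits.Roots Cfsg.Agent.Tits.Core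
  Cfsg.Agent.Tits.RootComb Cfsg.Agent.Nodes.Reps Cfsg.Agent.Nodes.BNOf
  Cfsg.Agent.Nodes.StabComb Cfsg.Agent.Nodes.Bruhat Cfsg.Agent.Nodes.LeviDec Cfsg.Agent.H35.Poin
  Cfsg.Agent.H35.PoinNum Cfsg.Agent.H35.ExcIdx Cfsg.Agent.H134.StrP
  Cfsg.Agent.ChevalleyStructure.CoxeterGeomTypes Cfsg.Lie
open Cfsg.Agent.Nodes.RGDChev Cfsg.Agent.ChevalleyStructure.NPerm
open Cfsg.Agent.KFacts.RgdDiag Cfsg.Agent.H554.RG Cfsg.Agent.H116.RatB0
open Cfsg.Agent.H145.BR (RowInt RowT RowForT RowZ)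

universe u

section Gen

variable {D : ChevalleyDatum} {l : ℕ} {M : CoxeterMatrix (Fin l)} (hp : IsType D l M) (K : Type u) [Field K]
  [Fintype K]

/-- **The criterion.** -/
theorem rowZ_of_PJ {p : ℕ} [hp' : Fact p.Prime] {J : Set (Fin l)}
    (hJ : ∀ σ : Equiv.Perm (Fin l), (∀ i j, M (σ i) (σ j) = M i j) → σ '' J = J)
    (hidx : p ∣ (PJ M.toCoxeterSystem hp.isCartan (TT D K) (XX D l K) J).index)
    (hint : ∀ [Fintype (PJ M.toCoxeterSystem hp.isCartan (TT D K) (XX D l K) J)] {χ : ↥(D.group K) → ℂ},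
      IsIrrCharacter ↥(D.group K) χ →
      ∑ g : PJ M.toCoxeterSystem hp.isCartan (TT D K) (XX D l K) J, χ g ≠ 0 → ∀ g, ∃ k : ℤ, χ g = k) :
    RowZ p ↥(D.group K) := by
  classical
  obtain ⟨r, f, _, hr, hf, hK⟩ := exists_pow K
  have : Fact r.Prime := ⟨hr⟩
  have hfin := finite_W hp M.toCoxeterSystem
  have R := rgd (K := K) hp M.toCoxeterSystem r
  have hG := GG_eq_top hp K M.toCoxeterSystem
  refine H583.BR.rowZ_of_dvd _ hidx ?_ ?_
  · intro a _
    obtain ⟨s, σ, hσ⟩ := exists_std_conj R hG a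
    have h1 := hJ σ fun i j => Diag.matrix (R := R) hσ.diag i j
    have h2 := map_PJ R hG hσ J
    rw [h1] at h2
    refine ⟨s⁻¹, fun h hh => ⟨s * a h * s⁻¹, ?_, by group⟩⟩
    rw [← h2]
    exact ⟨h, hh, rfl⟩
  · intro _ χ hχ
    have : Fintype (PJ M.toCoxeterSystem hp.isCartan (TT D K) (XX D l K) J) := Fintype.ofFinite _
    refine hint χ.2 ?_
    intro h0
    apply hχ
    rw [H139.RealB0.Crit.classInner_fixedPointCharacter, ← map_sum, h0, map_zero, mul_zero]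

/-- the index -/
theorem dvd_index_of {r f : ℕ} (hr : r.Prime) (hf : f ≠ 0) (hK : Fintype.card K = r ^ f) [CharP K r] {g : ℕ}
    (hg : g ∣ r ^ f - 1)
    (hT : g * Nat.card (D.diagonalSubgroup K) = (r ^ f - 1) ^ D.rank) {dS : List ℕ} {N : ℕ}
    (hdS : ∀ d ∈ dS, 0 < d ∧ d < N) (hS : ∃ b, g * Nat.card (D.group K) = r ^ b * pr (r ^ f) dS)
    {p m : ℕ} [hp' : Fact p.Prime] (hpm : (p : ℤ) ∣ E (r ^ f) m) (hm : m < N)
    (k : Fin l) {J : List (Fin l)} {dJ : List ℕ} (e1 : ∀ j, j ∈ J ↔ j ≠ k)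
    (e2 : ∀ (_ : Finite M.Group), RGD M.toCoxeterSystem hp.isCartan r (TT D K)
        (fun i => (⟨nn hp K i, nn_mem_group hp i⟩ : ↥(D.group K))) (XX D l K) →
        (∀ i, Nat.card (XX D l K (sr i)) = r ^ f) →
        ParOrd M.toCoxeterSystem hp.isCartan (TT D K) (XX D l K) (r ^ f) l J dJ)
    (e3 : ∀ d ∈ dJ, 0 < d ∧ d < N) (e4 : ∀ m < N, cnt dJ m ≤ cnt dS m) (e5 : cnt dJ m < cnt dS m) :
    p ∣ (PJ M.toCoxeterSystem hp.isCartan (TT D K) (XX D l K) {j | j ≠ k}).index := by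
  have : Fact r.Prime := ⟨hr⟩
  have hfin := finite_W hp M.toCoxeterSystem
  have hR := rgd (K := K) hp M.toCoxeterSystem r
  have h2 := two_le hr hf
  have hc : ∀ i, Nat.card (XX D l K (sr i)) = r ^ f := fun i => by
    rw [card_XX hp K M.toCoxeterSystem (isRoot_sr _ _ i), Nat.card_eq_fintype_card, hK]
  have h3 : ({j | j ≠ k} : Set (Fin l)) = {j | j ∈ J} := by
    ext j
    exact (e1 j).symm
  rw [h3]
  exact dvd_idx h2 hdS e3 (idx_of_parOrd hp K hr hf hK _ hg hT (fun d hd => (hdS d hd).1) hS (e2 hfin hR hc)) e4 hpm hm e5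

/-- a permutation fixing `k` -/
theorem image_ne {l : ℕ} {σ : Equiv.Perm (Fin l)} {k : Fin l} (h0 : σ k = k) : σ '' {j | j ≠ k} = {j | j ≠ k} := by
  ext i
  constructor
  · rintro ⟨j, hj, rfl⟩
    intro e
    apply hj
    rw [← h0] at e
    exact σ.injective e
  · intro hi
    refine ⟨σ⁻¹ i, ?_, by simp⟩
    intro e
    apply hi
    have h1 : σ (σ⁻¹ i) = σ k := by rw [e]
    rw [h0] at h1
    simpa using h1

end Gen

section Sym

/-- the Coxeter matrix of type `E6` -/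
def m6 (i j : Fin 6) : ℕ := (![![1, 2, 3, 2, 2, 2], ![2, 1, 2, 3, 2, 2], ![3, 2, 1, 3, 2, 2],
  ![2, 3, 3, 1, 3, 2], ![2, 2, 2, 3, 1, 3], ![2, 2, 2, 2, 3, 1]] :
  Fin 6 → Fin 6 → ℕ) i j

theorem m6_eq (i j : Fin 6) : CoxeterMatrix.E₆ i j = m6 i j := by rfl

theorem e6_three : ∀ x a b c : Fin 6, m6 x a = 3 → m6 x b = 3 → m6 x c = 3 → a ≠ b → a ≠ c → b ≠ c → x = 3 := by
  decide +kernel

theorem e6_leaf : ∀ x : Fin 6, m6 x 3 = 3 → (∀ z : Fin 6, z ≠ x → z ≠ 3 → m6 x z = 2) → x = 1 := by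
  decide +kernel

theorem e6_sym {σ : Equiv.Perm (Fin 6)} (hσ : ∀ i j, CoxeterMatrix.E₆ (σ i) (σ j) = CoxeterMatrix.E₆ i j) :
    σ 1 = 1 := by
  simp only [m6_eq] at hσ
  have h3 : σ 3 = 3 := by
    refine e6_three (σ 3) (σ 1) (σ 2) (σ 4) ?_ ?_ ?_ ?_ ?_ ?_
    · rw [hσ]; decide +kernel
    · rw [hσ]; decide +kernel
    · rw [hσ]; decide +kernel
    · exact fun e => absurd (σ.injective e) (by decide)
    · exact fun e => absurd (σ.injective e) (by decide)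
    · exact fun e => absurd (σ.injective e) (by decide)
  refine e6_leaf (σ 1) ?_ ?_
  · have h4 := hσ 1 3
    rw [h3] at h4
    rw [h4]
    decide +kernel
  · intro z hz hz'
    obtain ⟨y, rfl⟩ := σ.surjective z
    rw [hσ]
    have h4 : y ≠ 1 := fun e => hz (by rw [e])
    have h5 : y ≠ 3 := fun e => hz' (by rw [e, h3])
    clear hz hz' h3 hσ
    revert y
    decide +kernel

theorem e7_leaf6 : ∀ x y : Fin 7, H422.RatB.m7 x y = 3 → (∀ z : Fin 7, z ≠ x → z ≠ y → H422.RatB.m7 x z = 2) →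
    x ≠ 0 → H422.RatB.m7 x 3 = 2 → x = 6 := by
  decide +kernel

theorem e7_sym6 {σ : Equiv.Perm (Fin 7)} (hσ : ∀ i j, CoxeterMatrix.E₇ (σ i) (σ j) = CoxeterMatrix.E₇ i j) :
    σ 6 = 6 := by
  have h0 := H422.RatB.e7_sym hσ
  simp only [H422.RatB.m7_eq] at hσ
  have h3 : σ 3 = 3 := by
    refine H422.RatB.e7_three (σ 3) (σ 1) (σ 2) (σ 4) ?_ ?_ ?_ ?_ ?_ ?_
    · rw [hσ]; decide +kernel
    · rw [hσ]; decide +kernel
    · rw [hσ]; decide +kernel
    · exact fun e => absurd (σ.injective e) (by decide)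
    · exact fun e => absurd (σ.injective e) (by decide)
    · exact fun e => absurd (σ.injective e) (by decide)
  refine e7_leaf6 (σ 6) (σ 5) ?_ ?_ ?_ ?_
  · rw [hσ]; decide +kernel
  · intro z hz hz'
    obtain ⟨y, rfl⟩ := σ.surjective z
    rw [hσ]
    have h4 : y ≠ 6 := fun e => hz (by rw [e])
    have h5 : y ≠ 5 := fun e => hz' (by rw [e])
    clear hz hz' h3 h0 hσ
    revert y
    decide +kernel
  · intro e
    rw [← h0] at e
    exact absurd (σ.injective e) (by decide)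
  · have h4 := hσ 6 3
    rw [h3] at h4
    rw [h4]
    decide +kernel

end Sym

section Rows

variable (K : Type u) [Field K] [Fintype K] {p : ℕ} [hp : Fact p.Prime]

/-- `Φ_m` divides the index of the parabolic subgroup of type `A₅` of `E₆` -/
theorem rowZ_E6_of_dvd {m : ℕ} (hm : m ∈ [2, 3, 4, 6, 8, 9, 12]) (hd : (p : ℤ) ∣ E (Fintype.card K) m) :
    RowZ p (chevE6.group K) := by
  obtain ⟨r, f, _, hr, hf, hK⟩ := exists_pow K
  rw [hK] at hd
  have h2 := two_le hr hf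
  refine rowZ_of_PJ hpE6 K (J := {j | j ≠ 1}) (fun σ hσ => image_ne (e6_sym hσ)) ?_ (fun {_ _} hχ h0 g =>
    H498.RP.int_E6_A5 K hχ h0 g)
  refine dvd_index_of hpE6 K hr hf hK (g := Nat.gcd 3 (r ^ f - 1)) (Nat.gcd_dvd_right _ _)
    (by rw [← hK]; exact Cfsg.Agent.S1035.result rfl (chevE6, Nat.gcd 3 (Fintype.card K - 1)) (by simp))
    (dS := [2, 5, 6, 8, 9, 12]) (N := 31) (by decide) ⟨f * 36, ?_⟩ hd ?_ 1 (J := [0, 2, 3, 4, 5])
    (dJ := [1, 2, 3, 4, 5, 6]) (by decide) (fun _ R hs => oE6_02345 R h2 hs) (by decide) (by decide)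
    (by clear hd; revert m; decide)
  · have h3 := Cfsg.Agent.S1063.result hK
    rw [pow_mul]
    simp only [pr_cons, pr_nil]
    rw [h3]
    ring
  · clear hd; revert m; decide

/-- `Φ_m` divides the index of the parabolic subgroup of type `D₆` or of type `E₆` of `E₇` -/
theorem rowZ_E7_of_dvd {m : ℕ} (hm : m ∈ [2, 3, 6, 7, 9, 10, 12, 14, 18]) (hd : (p : ℤ) ∣ E (Fintype.card K) m) :
    RowZ p (chevE7.group K) := by
  obtain ⟨r, f, _, hr, hf, hK⟩ := exists_pow K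
  rw [hK] at hd
  have h2 := two_le hr hf
  have hS : ∃ b, Nat.gcd 2 (r ^ f - 1) * Nat.card ↥(chevE7.group K) =
      r ^ b * pr (r ^ f) [2, 6, 8, 10, 12, 14, 18] := by
    refine ⟨f * 63, ?_⟩
    have h3 := Cfsg.Agent.S1064.result hK
    rw [pow_mul]
    simp only [pr_cons, pr_nil]
    rw [h3]
    ring
  have hT : Nat.gcd 2 (r ^ f - 1) * Nat.card (chevE7.diagonalSubgroup K) = (r ^ f - 1) ^ chevE7.rank := by
    rw [← hK]; exact Cfsg.Agent.S1035.result rfl (chevE7, Nat.gcd 2 (Fintype.card K - 1)) (by simp)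
  by_cases hm' : m = 10
  · subst hm'
    refine rowZ_of_PJ hpE7 K (J := {j | j ≠ 6}) (fun σ hσ => image_ne (e7_sym6 hσ)) ?_ (fun {_ _} hχ h0 g =>
      H498.RP.int_E7_E6 K hχ h0 g)
    exact dvd_index_of hpE7 K hr hf hK (Nat.gcd_dvd_right _ _) hT (N := 31) (by decide) hS hd (by decide) 6
      (J := [0, 1, 2, 3, 4, 5]) (dJ := [1, 2, 5, 6, 8, 9, 12]) (by decide) (fun _ R hs => oE7_012345 R h2 hs) (by decide)
      (by decide) (by decide)
  · refine rowZ_of_PJ hpE7 K (J := {j | j ≠ 0}) (fun σ hσ => image_ne (H422.RatB.e7_sym hσ)) ?_ (fun {_ _} hχ h0 g =>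
      H498.RP.int_E7_D6 K hχ h0 g)
    exact dvd_index_of hpE7 K hr hf hK (Nat.gcd_dvd_right _ _) hT (N := 31) (by decide) hS hd
      (by clear hd; revert m; decide) 0
      (J := [1, 2, 3, 4, 5, 6]) (dJ := [1, 2, 4, 6, 6, 8, 10]) (by decide) (fun _ R hs => oE7_123456 R h2 hs) (by decide)
      (by decide) (by clear hd; revert m; decide)

end Rows

section Final

variable {p : ℕ} [hp : Fact p.Prime]

theorem dvd_sq_add_one {q : ℕ} (h : (p : ℤ) ∣ E q 4) : p ∣ q ^ 2 + 1 := by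
  have h1 : E q 4 = (q : ℤ) ^ 2 + 1 := by
    rw [E, show (4 : ℕ) = 2 ^ (1 + 1) by norm_num, Polynomial.cyclotomic_prime_pow_eq_geom_sum Nat.prime_two]
    simp [Finset.sum_range_succ]
    ring
  rw [h1] at h
  exact_mod_cast h

/-- all primes but those dividing `Φ₅(q)` -/
theorem rowZ_E6 (hp2 : p ≠ 2) {F : Type} [Field F] [Fintype F] (hpF : (p : F) ≠ 0)
    (hG : p ∣ Nat.card ↥(chevE6.group F)) (h5 : orderOf ((Fintype.card F : ℕ) : ZMod p) ≠ 5) :
    RowZ p (chevE6.group F) := by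
  have h2 := ord_mem_E6 hpF hG
  by_cases h4 : orderOf ((Fintype.card F : ℕ) : ZMod p) = 1
  · exact (rowInt_one_E6 hp2 (dvd_of_ord_one Fintype.card_pos h4)).rowZ
  · refine rowZ_E6_of_dvd F (m := orderOf ((Fintype.card F : ℕ) : ZMod p)) ?_ (dvd_E (not_dvd_card hpF))
    clear hG
    generalize orderOf ((Fintype.card F : ℕ) : ZMod p) = d at h2 h4 h5
    revert d
    decide

/-- all primes but those dividing `Φ₅(q)`, `Φ₈(q)` -/
theorem rowZ_E7 (hp2 : p ≠ 2) {F : Type} [Field F] [Fintype F] (hpF : (p : F) ≠ 0)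
    (hG : p ∣ Nat.card ↥(chevE7.group F)) (h5 : orderOf ((Fintype.card F : ℕ) : ZMod p) ≠ 5)
    (h8 : orderOf ((Fintype.card F : ℕ) : ZMod p) ≠ 8) : RowZ p (chevE7.group F) := by
  have h2 := ord_mem_E7 hpF hG
  by_cases h1 : orderOf ((Fintype.card F : ℕ) : ZMod p) = 1
  · exact (rowInt_one_E7 hp2 (dvd_of_ord_one Fintype.card_pos h1)).rowZ
  by_cases h4 : orderOf ((Fintype.card F : ℕ) : ZMod p) = 4
  · refine H422.RatB.rowZ_E7_four F hp2 (dvd_sq_add_one ?_)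
    rw [← h4]
    exact dvd_E (not_dvd_card hpF)
  · refine rowZ_E7_of_dvd F (m := orderOf ((Fintype.card F : ℕ) : ZMod p)) ?_ (dvd_E (not_dvd_card hpF))
    clear hG
    generalize orderOf ((Fintype.card F : ℕ) : ZMod p) = d at h2 h1 h4 h5 h8
    revert d
    decide

theorem noncyclic_of {X Y : Type} [Group X] [Group Y] [Finite X] (e : X ≃* Y) (hc : ∀ P : Sylow p X, ¬ IsCyclic P)
    (P : Sylow p Y) : ¬ IsCyclic P := by
  intro hP
  have hfin : Finite Y := Finite.of_equiv _ e.toEquiv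
  obtain ⟨P₀⟩ : Nonempty (Sylow p X) := inferInstance
  refine hc P₀ ?_
  let P₁ : Sylow p Y := Sylow.ofCard ((P₀ : Subgroup X).map e.toMonoidHom) (by
    rw [Subgroup.card_map_of_injective e.injective, P₀.card_eq_multiplicity, Nat.card_congr e.toEquiv])
  have h6 : IsCyclic P₁ := (P.equiv P₁).isCyclic.1 hP
  have h7 : P₀ ≃* P₁ := (P₀ : Subgroup X).equivMapOfInjective e.toMonoidHom e.injective
  exact h7.isCyclic.2 h6

/-- **the row `e6` of S4891** -/
theorem row_e6 (hp2 : p ≠ 2) : RowForT p (fun X _ => ∃ (F : Type) (_ : Field F) (_ : Fintype F), (p : F) ≠ 0 ∧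
    Nonempty (X ≃* Lie.chevE6.group F)) := by
  intro X _ _ _ _ hd hc hX
  obtain ⟨F, _, _, hpF, ⟨e⟩⟩ := hX
  have hG : p ∣ Nat.card ↥(chevE6.group F) := by rwa [← Nat.card_congr e.toEquiv]
  have h2 := ord_cases_E6 hpF hG (noncyclic_of e hc)
  exact H145.BR.RowT.congr e (rowZ_E6 hp2 hpF hG (fun h => by rw [h] at h2; exact absurd h2 (by decide))).rowT

/-- **the row `e7` of S4891** -/
theorem row_e7 (hp2 : p ≠ 2) : RowForT p (fun X _ => ∃ (F : Type) (_ : Field F) (_ : Fintype F), (p : F) ≠ 0 ∧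
    Nonempty (X ≃* Lie.chevE7.group F)) := by
  intro X _ _ _ _ hd hc hX
  obtain ⟨F, _, _, hpF, ⟨e⟩⟩ := hX
  have hG : p ∣ Nat.card ↥(chevE7.group F) := by rwa [← Nat.card_congr e.toEquiv]
  have h2 := ord_cases_E7 hpF hG (noncyclic_of e hc)
  exact H145.BR.RowT.congr e (rowZ_E7 hp2 hpF hG (fun h => by rw [h] at h2; exact absurd h2 (by decide))
    (fun h => by rw [h] at h2; exact absurd h2 (by decide))).rowT

end Final

end Cfsg.Agent.H541.RatB0
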